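import Mathlib.RingTheory.AdjoinRoot
import Mathlib.RingTheory.Ideal.Quotient.Operations

import Mathlib.RingTheory.FiniteType
import Mathlib.RingTheory.Polynomial.Basic

/-!
# Simple cyclic extensions `B[T]/(T^r - f)`
-/

set_option autoImplicit false

open Polynomial

namespace K945.RootAlg

variable {B E : Type*} [CommRing B] [CommRing E] {φ : B →+* E} {t : E} {f : B} {r : ℕ}

theorem ker_eval₂ (h0 : eval₂ φ t (X ^ r - C f) = 0) (h : Function.Injective (AdjoinRoot.lift φ t h0)) :
    RingHom.ker (eval₂RingHom φ t) = Ideal.span {X ^ r - C f} := by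
  ext p
  rw [RingHom.mem_ker, Ideal.mem_span_singleton, ← AdjoinRoot.mk_eq_zero]
  constructor
  · intro hp
    apply h
    rw [AdjoinRoot.lift_mk, map_zero]
    exact hp
  · intro hp
    have h1 := congrArg (AdjoinRoot.lift φ t h0) hp
    rw [AdjoinRoot.lift_mk, map_zero] at h1
    exact h1

theorem eval₂_surjective (h0 : eval₂ φ t (X ^ r - C f) = 0) (h : Function.Surjective (AdjoinRoot.lift φ t h0)) :
    Function.Surjective (eval₂RingHom φ t) := by
  intro c
  obtain ⟨x, rfl⟩ := h c
  obtain ⟨p, rfl⟩ := AdjoinRoot.mk_surjective x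
  exact ⟨p, (AdjoinRoot.lift_mk h0 p).symm⟩

theorem finite_of_bij (hr : 0 < r) (h0 : eval₂ φ t (X ^ r - C f) = 0)
    (h : Function.Surjective (AdjoinRoot.lift φ t h0)) : φ.Finite := by
  rcases subsingleton_or_nontrivial B with hB | hB
  · have hC : Subsingleton E := by
      have h1 : (1 : E) = 0 := by rw [← φ.map_one, Subsingleton.elim (1 : B) 0, φ.map_zero]
      exact subsingleton_of_zero_eq_one h1.symm
    exact RingHom.Finite.of_surjective _ fun c => ⟨0, Subsingleton.elim _ _⟩
  have hmon : (X ^ r - C f : B[X]).Monic := monic_X_pow_sub_C f hr.ne'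
  have h1 : (AdjoinRoot.lift φ t h0).comp (AdjoinRoot.of (X ^ r - C f)) = φ := by
    ext b
    simp
  rw [← h1]
  refine RingHom.Finite.comp (RingHom.Finite.of_surjective _ h) ?_
  rw [← AdjoinRoot.algebraMap_eq, RingHom.finite_algebraMap]
  exact hmon.finite_adjoinRoot

section

variable (hr : 0 < r) (hk : RingHom.ker (eval₂RingHom φ t) = Ideal.span {X ^ r - C f})
  (hs : Function.Surjective (eval₂RingHom φ t)) (ht : t ^ r = φ f)

include hk hs hr

/-- The coordinate of the root is a nonzerodivisor if `f` is. -/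
theorem mem_nonZeroDivisors (hf : f ∈ nonZeroDivisors B) : t ∈ nonZeroDivisors E := by
  rw [mem_nonZeroDivisors_iff_right]
  intro c hc
  obtain ⟨p, rfl⟩ := hs c
  have h1 : p * X ∈ RingHom.ker (eval₂RingHom φ t) := by
    rw [RingHom.mem_ker, map_mul]
    simpa using hc
  rw [hk, Ideal.mem_span_singleton'] at h1
  obtain ⟨q, hq⟩ := h1
  have h2 := congrArg (fun a : B[X] => a.coeff 0) hq
  simp only [mul_coeff_zero, coeff_sub, coeff_X_pow, hr.ne, if_false, coeff_C_zero, coeff_X_zero, mul_zero,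
    zero_sub, mul_neg, neg_eq_zero] at h2
  have h3 : q.coeff 0 = 0 := (mem_nonZeroDivisors_iff_right.mp hf) _ h2
  obtain ⟨q', rfl⟩ := X_dvd_iff.mpr h3
  have h4 : p = q' * (X ^ r - C f) := by
    have h5 : X * (q' * (X ^ r - C f)) = X * p := by rw [← mul_assoc, hq, mul_comm]
    exact (isRegular_X.left h5).symm
  have h5 : p ∈ RingHom.ker (eval₂RingHom φ t) := by
    rw [hk, h4]
    exact Ideal.mul_mem_left _ _ (Ideal.mem_span_singleton_self _)
  exact h5

/-- `φ b ∈ (t)` iff `b ∈ (f)`. -/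
theorem mem_iff (ht : t ^ r = φ f) (b : B) : φ b ∈ Ideal.span {t} ↔ b ∈ Ideal.span {f} := by
  constructor
  · intro h
    obtain ⟨c, hc⟩ := Ideal.mem_span_singleton'.mp h
    obtain ⟨p, rfl⟩ := hs c
    have h1 : C b - p * X ∈ RingHom.ker (eval₂RingHom φ t) := by
      rw [RingHom.mem_ker, map_sub, map_mul]
      simp only [coe_eval₂RingHom, eval₂_C, eval₂_X] at hc ⊢
      rw [hc, sub_self]
    rw [hk, Ideal.mem_span_singleton'] at h1
    obtain ⟨q, hq⟩ := h1
    have h2 := congrArg (fun a : B[X] => a.coeff 0) hq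
    simp only [mul_coeff_zero, coeff_sub, coeff_X_pow, hr.ne, if_false, coeff_C_zero, coeff_X_zero, mul_zero,
      zero_sub, mul_neg, sub_zero] at h2
    rw [← h2]
    exact neg_mem (Ideal.mul_mem_left _ _ (Ideal.mem_span_singleton_self _))
  · intro h
    obtain ⟨c, rfl⟩ := Ideal.mem_span_singleton'.mp h
    rw [map_mul, ← ht]
    exact Ideal.mul_mem_left _ _ (Ideal.pow_mem_of_mem _ (Ideal.mem_span_singleton_self _) _ hr)

omit hk hr in
/-- Every element of the extension is `φ b` modulo `t`. -/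
theorem exists_sub_mem (c : E) : ∃ b : B, c - φ b ∈ Ideal.span {t} := by
  obtain ⟨p, rfl⟩ := hs c
  refine ⟨p.coeff 0, ?_⟩
  have h1 : eval₂RingHom φ t p = eval₂RingHom φ t (divX p * X + C (p.coeff 0)) := by
    rw [divX_mul_X_add]
  rw [h1, map_add, map_mul]
  simp only [coe_eval₂RingHom, eval₂_C, eval₂_X, add_sub_cancel_right]
  exact Ideal.mul_mem_left _ _ (Ideal.mem_span_singleton_self _)

theorem isRadical (ht : t ^ r = φ f) (hf : (Ideal.span {f}).IsRadical) : (Ideal.span {t}).IsRadical := by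
  rintro c ⟨m, hm⟩
  obtain ⟨b, hb⟩ := exists_sub_mem (φ := φ) (t := t) hs c
  have h1 : φ (b ^ m) ∈ Ideal.span {t} := by
    rw [← Ideal.Quotient.eq_zero_iff_mem] at hb hm ⊢
    rw [map_sub, sub_eq_zero] at hb
    rw [map_pow, map_pow, ← hb, ← map_pow, hm]
  rw [mem_iff hr hk hs ht] at h1
  have h2 : b ∈ Ideal.span {f} := hf ⟨m, h1⟩
  rw [← mem_iff hr hk hs ht] at h2
  have h3 := add_mem hb h2
  rwa [sub_add_cancel] at h3

/-- The radical of the ideal of the branch divisor upstairs. -/
theorem radical_eq (ht : t ^ r = φ f) (hf : (Ideal.span {f}).IsRadical) :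
    (Ideal.span {φ f}).radical = Ideal.span {t} := by
  rw [← ht, ← Ideal.span_singleton_pow, Ideal.radical_pow _ hr.ne', (isRadical hr hk hs ht hf).radical]

end

end K945.RootAlg
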