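import Groth.Agent.LefX.K947.CIPic
import Groth.Agent.CycCov.K945.RootAlg

/-!
# Stalks of schemes which are locally complete intersections in affine space
-/

set_option autoImplicit false
universe u
open CategoryTheory CategoryTheory.Limits AlgebraicGeometry TopologicalSpace IsLocalRing

namespace K945.StalkCI

open Groth.Agent.LefX.K947.CIPic

/-- Stalks on an affine open whose ring is the quotient of a polynomial ring by a regular sequence. -/
theorem stalk_ci {k : Type u} [Field k] {Z : Scheme.{u}} {U : Z.Opens} (hU : IsAffineOpen U) {x : Z} (hx : x ∈ U)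
    {N : ℕ} (θ : MvPolynomial (Fin N) k →+* Γ(Z, U)) (hθ : Function.Surjective θ)
    (rs : List (MvPolynomial (Fin N) k))
    (hrs : RingTheory.Sequence.IsWeaklyRegular (MvPolynomial (Fin N) k) rs)
    (hker : RingHom.ker θ = Ideal.ofList rs) :
    SGA2.IsAbsCompleteIntersection (Z.presheaf.stalk x) ∧
      (IsClosed ({x} : Set Z) → ringKrullDim (Z.presheaf.stalk x) + rs.length = (N : WithBot ℕ∞)) := by
  let := Z.presheaf.algebra_section_stalk (⟨x, hx⟩ : U)
  have hloc : IsLocalization.AtPrime (Z.presheaf.stalk x) (hU.primeIdealOf ⟨x, hx⟩).asIdeal :=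
    hU.isLocalization_stalk ⟨x, hx⟩
  let e : Z.presheaf.stalk x ≃+* Localization.AtPrime (hU.primeIdealOf ⟨x, hx⟩).asIdeal :=
    (IsLocalization.algEquiv (hU.primeIdealOf ⟨x, hx⟩).asIdeal.primeCompl _ _).toRingEquiv
  have hreg : IsRegularLocalRing (Localization.AtPrime ((hU.primeIdealOf ⟨x, hx⟩).asIdeal.comap θ)) :=
    inferInstance
  obtain ⟨⟨B, _, hB, rs', h1, h2, ⟨e'⟩⟩, h3⟩ := absCI_of_surj θ hθ rs hrs hker
    (hU.primeIdealOf ⟨x, hx⟩).asIdeal hreg
  refine ⟨⟨B, inferInstance, hB, rs', h1, h2, ⟨e.trans e'⟩⟩, fun hx' => ?_⟩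
  have hmax : (hU.primeIdealOf ⟨x, hx⟩).asIdeal.IsMaximal := by
    rw [← PrimeSpectrum.isClosed_singleton_iff_isMaximal]
    have h5 : ({hU.primeIdealOf ⟨x, hx⟩} : Set _) = hU.fromSpec ⁻¹' {x} := by
      ext q
      constructor
      · rintro rfl
        exact hU.fromSpec_primeIdealOf ⟨x, hx⟩
      · intro hq
        apply hU.fromSpec.isOpenEmbedding.injective
        rw [hU.fromSpec_primeIdealOf ⟨x, hx⟩]
        exact hq
    rw [h5]
    exact hx'.preimage hU.fromSpec.continuous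
  have hmax' : ((hU.primeIdealOf ⟨x, hx⟩).asIdeal.comap θ).IsMaximal :=
    Ideal.comap_isMaximal_of_surjective _ hθ
  rw [Groth.Agent.Ega4B.DimFT.height_eq_of_isMaximal_mvPolynomial_fin k N,
    ← ringKrullDim_eq_of_ringEquiv e] at h3
  exact h3

theorem isWeaklyRegular_singleton {R : Type*} [CommRing R] [IsDomain R] {F : R} (hF : F ≠ 0) :
    RingTheory.Sequence.IsWeaklyRegular R [F] := by
  rw [RingTheory.Sequence.isWeaklyRegular_cons_iff]
  refine ⟨?_, RingTheory.Sequence.IsWeaklyRegular.nil _ _⟩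
  intro a b hab
  exact mul_left_cancel₀ hF hab

section Root

open Polynomial

variable {B' B E : Type*} [CommRing B'] [CommRing B] [CommRing E] (ψ : B' ≃+* B) {φ : B →+* E} {t : E} {f : B} {r : ℕ}

theorem ker_comp (hk : RingHom.ker (eval₂RingHom φ t) = Ideal.span {X ^ r - C f}) :
    RingHom.ker (eval₂RingHom (φ.comp (ψ : B' →+* B)) t) = Ideal.span {X ^ r - C (ψ.symm f)} := by
  have h1 : eval₂RingHom (φ.comp (ψ : B' →+* B)) t = (eval₂RingHom φ t).comp (mapRingHom (ψ : B' →+* B)) := by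
    ext <;> simp
  have h2 : (mapRingHom (ψ : B' →+* B)) = ((mapEquiv ψ : B'[X] ≃+* B[X]) : B'[X] →+* B[X]) := by
    ext <;> simp
  rw [h1, ← RingHom.comap_ker, hk, h2]
  have h3 : (X ^ r - C f : B[X]) = (mapEquiv ψ : B'[X] ≃+* B[X]) (X ^ r - C (ψ.symm f)) := by
    simp
  rw [h3]
  ext p
  rw [Ideal.mem_comap, Ideal.mem_span_singleton, Ideal.mem_span_singleton]
  exact map_dvd_iff (mapEquiv ψ : B'[X] ≃+* B[X])

theorem surjective_comp (hs : Function.Surjective (eval₂RingHom φ t)) :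
    Function.Surjective (eval₂RingHom (φ.comp (ψ : B' →+* B)) t) := by
  have h1 : eval₂RingHom (φ.comp (ψ : B' →+* B)) t = (eval₂RingHom φ t).comp (mapRingHom (ψ : B' →+* B)) := by
    ext <;> simp
  rw [h1]
  exact hs.comp (map_surjective _ ψ.surjective)

end Root

theorem ker_comp_equiv {A A' E : Type*} [CommRing A] [CommRing A'] [CommRing E] (ε : A ≃+* A') (θ : A' →+* E)
    (a : A') (h : RingHom.ker θ = Ideal.span {a}) :
    RingHom.ker (θ.comp (ε : A →+* A')) = Ideal.span {ε.symm a} := by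
  rw [← RingHom.comap_ker, h]
  ext p
  rw [Ideal.mem_comap, Ideal.mem_span_singleton, Ideal.mem_span_singleton]
  conv_lhs => rw [← ε.apply_symm_apply a]
  exact map_dvd_iff ε

/-- The case of a simple cyclic extension of a polynomial ring. -/
theorem stalk_root {k : Type u} [Field k] {Z : Scheme.{u}} {U : Z.Opens} (hU : IsAffineOpen U) {x : Z} (hx : x ∈ U)
    {N : ℕ} {B : Type*} [CommRing B] (ψ : MvPolynomial (Fin N) k ≃+* B) (φ : B →+* Γ(Z, U)) (t : Γ(Z, U)) (f : B)
    (r : ℕ) (hr : 0 < r)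
    (hk : RingHom.ker (Polynomial.eval₂RingHom φ t) = Ideal.span {Polynomial.X ^ r - Polynomial.C f})
    (hs : Function.Surjective (Polynomial.eval₂RingHom φ t)) :
    SGA2.IsAbsCompleteIntersection (Z.presheaf.stalk x) ∧
      (IsClosed ({x} : Set Z) → ringKrullDim (Z.presheaf.stalk x) = (N : WithBot ℕ∞)) := by
  obtain ⟨ε⟩ : Nonempty (MvPolynomial (Fin (N + 1)) k ≃+* Polynomial (MvPolynomial (Fin N) k)) :=
    ⟨(MvPolynomial.finSuccEquiv k N).toRingEquiv⟩
  have hθ : Function.Surjective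
    ((Polynomial.eval₂RingHom (φ.comp (ψ : MvPolynomial (Fin N) k →+* B)) t).comp
      (ε : MvPolynomial (Fin (N + 1)) k →+* Polynomial (MvPolynomial (Fin N) k))) :=
    (surjective_comp ψ hs).comp ε.surjective
  have hF : ε.symm (Polynomial.X ^ r - Polynomial.C (ψ.symm f)) ≠ 0 := by
    rw [Ne, EmbeddingLike.map_eq_zero_iff]
    exact (Polynomial.monic_X_pow_sub_C (ψ.symm f) hr.ne').ne_zero
  have key := stalk_ci hU hx _ hθ [ε.symm (Polynomial.X ^ r - Polynomial.C (ψ.symm f))]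
    (isWeaklyRegular_singleton hF) (by
      rw [Ideal.ofList_singleton]
      exact ker_comp_equiv ε _ _ (ker_comp ψ hk))
  refine ⟨key.1, fun h => ?_⟩
  have h1 := key.2 h
  rw [List.length_singleton, Nat.cast_add] at h1
  have h2 : ringKrullDim (Z.presheaf.stalk x) + ((1 : ℕ) : WithBot ℕ∞) = ((N : ℕ∞) : WithBot ℕ∞) + ((1 : ℕ) : WithBot ℕ∞) := h1
  exact ENat.WithBot.add_natCast_cancel.1 h2

end K945.StalkCI
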