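import Groth.Agent.CycCov.K945.SimpleProj
import Groth.Agent.CycCov.K945.StalkCI
import Groth.Agent.Lefpen.H608.TwistTriv
import Groth.Agent.Desc.DimMap
import Groth.Agent.Ega3B.ProjProper
import Groth.Agent.S1170

/-!
# The Lefschetz step for the Picard group of a simple cyclic cover of projective space
-/

set_option autoImplicit false
universe u
open CategoryTheory CategoryTheory.Limits AlgebraicGeometry TopologicalSpace IsLocalRing

namespace K945.LefStep

open Groth.Agent Groth.Agent.Coherent.K51 Groth.Agent.LefX.K947.CIPic K945.SimpleProj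
open LefPen Groth.Agent.Lefpen.H718.Chart Groth.Agent.Lefpen.H705.HypIdeal Groth.Agent.Lefpen.H705.ChartPoly

variable {N : ℕ} {k : Type u} [Field k]

/-- Injectivity of the restriction of Picard groups to a divisor in the class of `O(b)`. -/
theorem inj_step {Z : Scheme.{u}} [Z.Over (Spec (CommRingCat.of k))] [IsProper (Z ↘ Spec (CommRingCat.of k))]
    (f : Z ⟶ CohB1.ProjSpace N k) [IsAffineHom f] (J : Z.IdealSheafData) {b : ℕ} (hb : 1 ≤ b)
    (hJ : Nonempty (ClSub.idealMod J ≅ (Scheme.Modules.pullback f).obj (Twist.twistProjSpace N k (-(b : ℤ)))))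
    {d : ℕ} (hd : 3 ≤ d) (hgood : CIGood.Good (J.subschemeι ≫ f) d)
    (hci : ∀ x : Z, IsClosed ({x} : Set Z) → SGA2.IsAbsCompleteIntersection (Z.presheaf.stalk x) ∧
      (4 : WithBot ℕ∞) ≤ ringKrullDim (Z.presheaf.stalk x))
    (M M' : Z.Modules) (hM : PicF.IsInvertible M) (hM' : PicF.IsInvertible M')
    (h : Nonempty ((Scheme.Modules.pullback J.subschemeι).obj M ≅ (Scheme.Modules.pullback J.subschemeι).obj M')) :
    Nonempty (M ≅ M') := by
  have hln : IsLocallyNoetherian Z := LocallyOfFiniteType.isLocallyNoetherian (Z ↘ Spec (CommRingCat.of k))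
  have hinv : ClSub.IsInverseOf ((Scheme.Modules.pullback f).obj (Twist.twistProjSpace N k b)) (ClSub.idealMod J) := by
    obtain ⟨e⟩ := CIGood.nonempty_tensor_ideal f J hJ b
    obtain ⟨e0⟩ := Groth.Agent.S10962.nonempty_twist_zero (n := N) (R := k)
    rw [sub_self] at e
    exact ⟨e ≪≫ (Scheme.Modules.pullback f).mapIso e0 ≪≫ (Groth.Agent.Ega3B.PullTensor.nonempty_pullUnitIso f).some⟩
  have hamp : CohB1.IsAmple ((Scheme.Modules.pullback f).obj (Twist.twistProjSpace N k b)) :=
    Groth.Agent.Sga5.AmpleFib.isAmple_pullback f (Groth.Agent.S10962.isAmple_of_pos k N (by exact_mod_cast hb))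
  refine (Groth.Agent.S2949.result k Z J _ hinv hamp (fun x hx => ?_) (fun m hm i hi => ?_)
    (fun x hx hxs => ?_)).1 M M' hM hM' h
  · exact Groth.Agent.Sga2lef.H89.EtCI.depth_of_ci _ (hci x hx).1 2 (le_trans (by norm_num) (hci x hx).2)
  · obtain ⟨e⟩ := nonempty_tensorPow f J hJ m
    have h1 := hgood.van (-((m * b : ℕ) : ℤ)) i (by omega) (by omega)
    have h2 := Groth.Agent.Flat2F.HHSeq.subsingleton_HH_of_iso
      ((Scheme.Modules.pullbackComp J.subschemeι f).symm.app _ ≪≫
        (Scheme.Modules.pullback J.subschemeι).mapIso e.symm) i h1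
    have h3 : Subsingleton (Coh.HH Z ((Scheme.Modules.pushforward J.subschemeι).obj
        ((Scheme.Modules.pullback J.subschemeι).obj (CohB1.tensorPow (ClSub.idealMod J) m))) i) :=
      (Groth.Agent.CurvesC.CurveNum.hhPush J.subschemeι _ i).symm.toEquiv.subsingleton
    have hM : PicF.IsInvertible (CohB1.tensorPow (ClSub.idealMod J) m) :=
      Groth.Agent.Lefx.H80.NhdPic.isInvertible_of_iso e.symm (Groth.Agent.Fdesc.LocGen.isInvertible_pullback f
        (Groth.Agent.Ega3B.ProjFrame.isInvertible_twistProjSpace N k _))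
    exact Groth.Agent.Flat2F.HHSeq.subsingleton_HH_of_iso (Groth.Agent.VarietyB.ProjForm.projIsoUnit J.subschemeι
      (Groth.Agent.VarietyB.TensCoh.HasBases.of_isFinLocFree
        (Groth.Agent.FormalA.ThickSurj.isFinLocFree_of_isInvertible hM))).symm i h3
  · exact ((Groth.Agent.Ega4dA.LocalRingCrit.isParafactorialLocalRing_iff _).1
      (Groth.Agent.S3353.result _ (hci x hx).1 (hci x hx).2)).2

/-- Stalks of projective space. -/
theorem stalk_proj (x : CohB1.ProjSpace N k) :
    SGA2.IsAbsCompleteIntersection ((CohB1.ProjSpace N k).presheaf.stalk x) ∧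
      (IsClosed ({x} : Set (CohB1.ProjSpace N k)) →
        ringKrullDim ((CohB1.ProjSpace N k).presheaf.stalk x) = (N : WithBot ℕ∞)) := by
  have hx : x ∈ ⨆ i : Fin (N + 1), ((ch N k i).1 : (CohB1.ProjSpace N k).Opens) := by
    rw [iSup_ch]
    trivial
  obtain ⟨i, hi⟩ := Opens.mem_iSup.1 hx
  have key := K945.StalkCI.stalk_ci (isAffineOpen_chart (r := N) (k := k) i) hi (polyToChart i)
    (polyToChart_bijective i).2 [] (RingTheory.Sequence.IsWeaklyRegular.nil _ _) (by
      rw [Ideal.ofList_nil, (RingHom.injective_iff_ker_eq_bot _).1 (polyToChart_bijective i).1])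
  refine ⟨key.1, fun h => ?_⟩
  have h1 := key.2 h
  rwa [List.length_nil, Nat.cast_zero, add_zero] at h1

/-- Every invertible module on a divisor `D` of class `O(b)` in `P^N`, `N ≥ 4`, is a twist. -/
theorem gen_divisor (hN : 4 ≤ N) (J : (CohB1.ProjSpace N k).IdealSheafData) {b : ℕ} (hb : 1 ≤ b)
    (hJ : Nonempty (ClSub.idealMod J ≅ (Scheme.Modules.pullback (𝟙 (CohB1.ProjSpace N k))).obj
      (Twist.twistProjSpace N k (-(b : ℤ))))) :
    CIGood.Good (J.subschemeι ≫ 𝟙 _) (N - 1) ∧
    ∀ L : J.subscheme.Modules, PicF.IsInvertible L → ∃ e : ℤ,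
      Nonempty (L ≅ (Scheme.Modules.pullback (J.subschemeι ≫ 𝟙 _)).obj (Twist.twistProjSpace N k e)) := by
  have hgood : CIGood.Good (J.subschemeι ≫ 𝟙 _) (N - 1) := CIGood.Good.step (d := N - 1) (by
    have : N - 1 + 1 = N := by omega
    rw [this]
    exact CIGood.good_iso (Iso.refl (CohB1.ProjSpace N k))) J hJ
  refine ⟨hgood, ?_⟩
  let : (CohB1.ProjSpace N k).Over (Spec (CommRingCat.of k)) := ⟨CohB1.ProjSpace.toSpec N k⟩
  have hprop : IsProper (CohB1.ProjSpace N k ↘ Spec (CommRingCat.of k)) :=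
    Groth.Agent.Ega3B.ProjProper.isProper_toSpec N k
  refine gen_step (𝟙 (CohB1.ProjSpace N k)) J hb hJ (d := N - 1) (by omega) hgood (fun x hx => ?_) (fun L hL => ?_)
  · have h2 := stalk_proj x
    refine ⟨h2.1, ?_⟩
    rw [h2.2 hx]
    exact_mod_cast hN
  · obtain ⟨n, ⟨e⟩⟩ := Groth.Agent.S1697.result k N L hL
    exact ⟨n, ⟨e ≪≫ ((Scheme.Modules.pullbackId _).app _).symm⟩⟩

/-- A scheme affine over `P^N_k`, proper over `k`, with `O(e)` trivial for some `e ≠ 0` is finite over `k`. -/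
theorem isFinite_of_twist_trivial {X : Scheme.{u}} (i : X ⟶ CohB1.ProjSpace N k) [IsFinite i] (e : ℤ) (he : e ≠ 0)
    (h : Nonempty ((Scheme.Modules.pullback i).obj (Twist.twistProjSpace N k e) ≅ Coh.structureModule X)) :
    IsFinite (i ≫ CohB1.ProjSpace.toSpec N k) := by
  have hp : IsProper (CohB1.ProjSpace.toSpec N k) := Groth.Agent.Ega3B.ProjProper.isProper_toSpec N k
  have hc : CompactSpace X := QuasiCompact.compactSpace_of_compactSpace (i ≫ CohB1.ProjSpace.toSpec N k)
  have hs : X.IsSeparated := by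
    constructor
    have h6 : IsSeparated ((i ≫ CohB1.ProjSpace.toSpec N k) ≫ terminal.from _) := inferInstance
    rwa [Subsingleton.elim (terminal.from X) ((i ≫ CohB1.ProjSpace.toSpec N k) ≫ terminal.from _)]
  obtain ⟨n, hn, ⟨φ⟩⟩ : ∃ n : ℕ, 0 < n ∧ Nonempty (Lefpen.H608.TwistTriv.tw i (n : ℤ) ≅ Coh.structureModule X) := by
    obtain ⟨n, rfl | rfl⟩ := e.eq_nat_or_neg
    · exact ⟨n, by omega, h⟩
    · have := Lefpen.H608.TwistTriv.nonempty_tw_neg i _ h
      rw [neg_neg] at this
      exact ⟨n, by omega, this⟩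
  obtain ⟨ψ⟩ := Lefpen.H608.TwistTriv.nonempty_tw_pow i n
  have h3 : CohB1.IsAmple (CohB1.tensorPow (Lefpen.H608.TwistTriv.tw i 1) n) :=
    (Groth.Agent.S2327.result X (Lefpen.H608.TwistTriv.tw i 1) (Lefpen.H608.TwistTriv.isInvertible_tw i 1) n hn).mp
      (Lefpen.H608.TwistTriv.isAmple_tw_one i)
  have h4 : CohB1.IsAmple (Coh.structureModule X) :=
    Groth.Agent.CohqB.AmpCocycle.isAmple_of_iso (ψ.symm ≪≫ φ) h3
  exact Lefpen.H608.TwistTriv.isFinite_of_isAmple_structureModule _ h4

/-- A finite morphism does not increase the dimension. -/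
theorem topologicalKrullDim_le {Z Z' : Scheme.{u}} (ν : Z' ⟶ Z) [IsFinite ν] :
    topologicalKrullDim Z' ≤ topologicalKrullDim Z := by
  refine Desc.DimMap.topologicalKrullDim_le_of_fibres ν ν.continuous fun x y hxy h => ?_
  have h1 := ν.isDiscrete_preimage_singleton (ν x)
  have := h1.to_subtype
  have h2 : (⟨x, rfl⟩ : (ν ⁻¹' {ν x} : Set Z')) ⤳ ⟨y, h.symm⟩ :=
    Topology.IsInducing.subtypeVal.specializes_iff.1 hxy
  exact congrArg Subtype.val (specializes_iff_eq.1 h2)

/-- A finite scheme over a field has no stalk of positive dimension. -/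
theorem ringKrullDim_stalk_le_zero {X : Scheme.{u}} (p : X ⟶ Spec (CommRingCat.of k)) [IsFinite p] (x : X) :
    ringKrullDim (X.presheaf.stalk x) ≤ 0 := by
  refine (Groth.Agent.S1170.ringKrullDim_stalk_le X x).trans ((topologicalKrullDim_le p).trans ?_)
  have h1 : topologicalKrullDim (Spec (CommRingCat.of k)) = ringKrullDim k :=
    PrimeSpectrum.topologicalKrullDim_eq_ringKrullDim k
  rw [h1, ringKrullDim_eq_zero_of_field]

end K945.LefStep
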