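import Groth.Agent.CycCov.K945.TwistIdeal
import Groth.Agent.CycCov.K945.RootAlg
import Groth.Agent.CycCov.K892.DblCov
import Groth.Agent.CycCov.K892.Frame
import Groth.Agent.CycCov.K892.Pair
import Groth.Agent.LogNCD.K922.Chart
import Groth.Agent.Vanish.K31.NcdRad
import Groth.Agent.Picfga.ClosedMap
import Groth.Agent.Sga5.ProjReg
import Groth.Agent.Sga5.AmpleFib
import Groth.Agent.Lefpen.H717.ProjIrr

/-!
# Simple cyclic covers of projective space on the standard charts

For the simple cover `π : Y → P^n` defined by `s ∈ Γ(O(d)^{⊗ r})` with divisor of zeros `D` (reduced): the ideal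
`((D).comap π).radical` of the reduced ramification divisor is generated on `π⁻¹(chart i)` by the coordinate of the root,
and its ideal module is `π^* O(-d)`; the ideal module of `D` is `O(-rd)`.
-/

set_option autoImplicit false
universe u

open CategoryTheory AlgebraicGeometry Limits TopologicalSpace Opposite

namespace K945.SimpleProj

open LefPen Groth.Agent.Lefpen.H718.Chart Groth.Agent.Lefpen.H705.HypIdeal
open Groth.Agent.Lefpen.H705.ChartPoly Groth.Agent.Fdesc.LocGen Groth.Agent.Sga5
open Groth.Agent.Dix.IdealModCartier K892.Frames K892.RankOne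

variable {n : ℕ} {k : Type u} [Field k]

/-- The standard charts as affine opens. -/
noncomputable abbrev ch (n : ℕ) (k : Type u) [Field k] (i : Fin (n + 1)) : (CohB1.ProjSpace n k).affineOpens :=
  ⟨chart n k i, isAffineOpen_chart i⟩

open Groth.Agent.Sga67.Sec in
/-- Frames of `O(d)` on the charts. -/
theorem exists_frames (d : ℕ) :
    ∃ g : ∀ i : Fin (n + 1), Sec (Twist.twistProjSpace n k d) (chart n k i),
      (∀ i, K892.RankOne.Gen (Twist.twistProjSpace n k d) (chart n k i) (g i)) ∧
      ∀ i j, resO _ (inf_le_left : chart n k i ⊓ chart n k j ≤ _) (ratio i j) ^ d •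
          Groth.Agent.Sga67.Sec.res _ (inf_le_left : chart n k i ⊓ chart n k j ≤ _) (g i) =
          Groth.Agent.Sga67.Sec.res _ (inf_le_right : chart n k i ⊓ chart n k j ≤ _) (g j) := by
  obtain ⟨g, hg, hrel⟩ := Groth.Agent.Lefpen.H121.CurveForm.exists_gens (N := n) (k := k) (d : ℤ)
  refine ⟨g, fun i => gen_iff.mpr (hg i), fun i j => ?_⟩
  have h := hrel i j
  have h2 : (-(d : ℤ)).toNat = 0 := Int.toNat_of_nonpos (by omega)
  rw [Int.toNat_natCast, h2, pow_zero, one_smul] at h
  exact h

open Groth.Agent.Sga67.Sec in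
/-- Frames of `O(d)` and the equations of the section on the charts. -/
structure Eqs {r d : ℕ} (s : Coh.structureModule (CohB1.ProjSpace n k) ⟶ CohB1.tensorPow (Twist.twistProjSpace n k d) r)
    (g : ∀ i : Fin (n + 1), Sec (Twist.twistProjSpace n k d) (chart n k i))
    (f : ∀ i : Fin (n + 1), Γ(CohB1.ProjSpace n k, chart n k i)) : Prop where
  gen : ∀ i, K892.RankOne.Gen (Twist.twistProjSpace n k d) (chart n k i) (g i)
  rel : ∀ i j, resO _ (inf_le_left : chart n k i ⊓ chart n k j ≤ _) (ratio i j) ^ d •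
          Groth.Agent.Sga67.Sec.res _ (inf_le_left : chart n k i ⊓ chart n k j ≤ _) (g i) =
          Groth.Agent.Sga67.Sec.res _ (inf_le_right : chart n k i ⊓ chart n k j ≤ _) (g j)
  val : ∀ i, SecTwist.val s (chart n k i) = f i • CycCov.lpow (Twist.twistProjSpace n k d) (chart n k i) (g i) r

section Eqs

open Groth.Agent.Sga67.Sec

variable {r d : ℕ}
  {s : Coh.structureModule (CohB1.ProjSpace n k) ⟶ CohB1.tensorPow (Twist.twistProjSpace n k d) r}
  {D : Fin 1 → (CohB1.ProjSpace n k).IdealSheafData}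

theorem exists_eqs (s : Coh.structureModule (CohB1.ProjSpace n k) ⟶
    CohB1.tensorPow (Twist.twistProjSpace n k d) r) : ∃ g f, Eqs s g f := by
  obtain ⟨g, hg, hrel⟩ := exists_frames (n := n) (k := k) d
  have h : ∀ i, ∃ f : Γ(CohB1.ProjSpace n k, chart n k i), SecTwist.val s (chart n k i) =
      f • CycCov.lpow (Twist.twistProjSpace n k d) (chart n k i) (g i) r := by
    intro i
    obtain ⟨f, hf⟩ := (Gen.lpow (hg i) r).bijective.2 (SecTwist.val s (chart n k i))
    exact ⟨f, hf.symm⟩
  choose f hf using h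
  exact ⟨g, f, hg, hrel, hf⟩

variable {g : ∀ i : Fin (n + 1), Sec (Twist.twistProjSpace n k d) (chart n k i)}
  {f : ∀ i : Fin (n + 1), Γ(CohB1.ProjSpace n k, chart n k i)}

/-- The equations of `D` on the overlaps. -/
theorem Eqs.rel_f (E : Eqs s g f) (i j : Fin (n + 1)) :
    resO _ (inf_le_left : chart n k i ⊓ chart n k j ≤ _) (f i) =
      resO _ (inf_le_left : chart n k i ⊓ chart n k j ≤ _) (ratio i j) ^ (r * d) *
        resO _ (inf_le_right : chart n k i ⊓ chart n k j ≤ _) (f j) := by
  have hG := Gen.lpow ((E.gen i).restrict (inf_le_left : chart n k i ⊓ chart n k j ≤ _)) r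
  apply hG.bijective.1
  have h1 := congrArg (Groth.Agent.Sga67.Sec.res _ (inf_le_left : chart n k i ⊓ chart n k j ≤ _)) (E.val i)
  have h2 := congrArg (Groth.Agent.Sga67.Sec.res _ (inf_le_right : chart n k i ⊓ chart n k j ≤ _)) (E.val j)
  rw [K892.Pair.res_val, Groth.Agent.Sga67.Sec.res_smul] at h1 h2
  have h3 : ∀ {U V : (CohB1.ProjSpace n k).Opens} (h : V ≤ U) (e : Sec (Twist.twistProjSpace n k d) U),
      Groth.Agent.Sga67.Sec.res (CohB1.tensorPow (Twist.twistProjSpace n k d) r) h
        (CycCov.lpow (Twist.twistProjSpace n k d) U e r) =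
        CycCov.lpow (Twist.twistProjSpace n k d) V (Groth.Agent.Sga67.Sec.res (Twist.twistProjSpace n k d) h e) r :=
    fun h e => res_lpow h e r
  have h4 := h1.symm.trans h2
  have h5 := h3 (inf_le_left : chart n k i ⊓ chart n k j ≤ _) (g i)
  have h6 := h3 (inf_le_right : chart n k i ⊓ chart n k j ≤ _) (g j)
  rw [← E.rel i j, lpow_smul, ← pow_mul] at h6
  change _ • CycCov.lpow _ _ _ _ = _ • CycCov.lpow _ _ _ _
  erw [h5, h6] at h4
  rw [h4, smul_smul, mul_comm d r, mul_comm]

/-- The ideal of `D` on the charts. -/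
theorem Eqs.ideal_eq (E : Eqs s g f)
    (hs : CycCov.IsZeroDiv (CohB1.tensorPow (Twist.twistProjSpace n k d) r) s (CycCov.divIdeal D (fun _ => 1)))
    (i : Fin (n + 1)) : (D 0).ideal (ch n k i) = Ideal.span {f i} := by
  have hI : CycCov.divIdeal D (fun _ => 1) = D 0 := by
    unfold CycCov.divIdeal
    rw [Fin.prod_univ_one, pow_one]
  rw [hI] at hs
  have hG := Gen.lpow (E.gen i) r
  have h1 : Submodule.span Γ(CohB1.ProjSpace n k, chart n k i)
      {f i • CycCov.lpow (Twist.twistProjSpace n k d) (chart n k i) (g i) r} =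
      (D 0).ideal (ch n k i) • (⊤ : Submodule Γ(CohB1.ProjSpace n k, chart n k i)
        (Sec (CohB1.tensorPow (Twist.twistProjSpace n k d) r) (chart n k i))) := by
    rw [← E.val i]
    exact hs (ch n k i)
  apply le_antisymm
  · intro a ha
    have h2 : a • CycCov.lpow (Twist.twistProjSpace n k d) (chart n k i) (g i) r ∈
        Submodule.span Γ(CohB1.ProjSpace n k, chart n k i)
          {f i • CycCov.lpow (Twist.twistProjSpace n k d) (chart n k i) (g i) r} := by
      rw [h1]
      exact Submodule.smul_mem_smul ha trivial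
    obtain ⟨b, hb⟩ := Submodule.mem_span_singleton.mp h2
    rw [smul_smul] at hb
    rw [Ideal.mem_span_singleton']
    exact ⟨b, hG.bijective.1 hb⟩
  · rw [Ideal.span_singleton_le_iff_mem]
    have h2 : f i • CycCov.lpow (Twist.twistProjSpace n k d) (chart n k i) (g i) r ∈
        (D 0).ideal (ch n k i) • (⊤ : Submodule Γ(CohB1.ProjSpace n k, chart n k i)
        (Sec (CohB1.tensorPow (Twist.twistProjSpace n k d) r) (chart n k i))) := by
      rw [← h1]
      exact Submodule.mem_span_singleton_self _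
    have h3 : ∀ x ∈ (D 0).ideal (ch n k i) • (⊤ : Submodule Γ(CohB1.ProjSpace n k, chart n k i)
        (Sec (CohB1.tensorPow (Twist.twistProjSpace n k d) r) (chart n k i))),
        coord hG x ∈ (D 0).ideal (ch n k i) := by
      intro x hx
      refine Submodule.smul_induction_on hx ?_ ?_
      · intro a ha m _
        rw [map_smul, smul_eq_mul]
        exact Ideal.mul_mem_right _ _ ha
      · intro a b ha hb
        rw [map_add]
        exact add_mem ha hb
    have h4 := h3 _ h2
    rwa [coord_smul_self] at h4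

/-- The ideal of a smooth divisor is radical. -/
theorem radical_eq_self (hD : LogNCD.IsNCD D (CohB1.ProjSpace.toSpec n k)) : (D 0).radical = D 0 := by
  have h1 : ∀ x : CohB1.ProjSpace n k, ∃ U : (CohB1.ProjSpace n k).affineOpens, x ∈ U.1 ∧
      ((D 0).ideal U).IsRadical := by
    intro x
    obtain ⟨U, hx, -, h⟩ := K31.NcdRad.exists_isRadical hD x ⊤ trivial
    rw [Fin.prod_univ_one] at h
    exact ⟨U, hx, h⟩
  choose U hx hU using h1
  refine Scheme.IdealSheafData.ext_of_iSup_eq_top U (eq_top_iff.mpr fun x _ => Opens.mem_iSup.mpr ⟨x, hx x⟩)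
    fun x => ?_
  rw [Scheme.IdealSheafData.radical_ideal]
  exact (hU x).radical

theorem isRadical_ideal (hD : LogNCD.IsNCD D (CohB1.ProjSpace.toSpec n k))
    (U : (CohB1.ProjSpace n k).affineOpens) : ((D 0).ideal U).IsRadical := by
  rw [← radical_eq_self hD, Scheme.IdealSheafData.radical_ideal]
  exact Ideal.radical_isRadical _

theorem Eqs.ne_zero (E : Eqs s g f) (hD : LogNCD.IsNCD D (CohB1.ProjSpace.toSpec n k))
    (hs : CycCov.IsZeroDiv (CohB1.tensorPow (Twist.twistProjSpace n k d) r) s (CycCov.divIdeal D (fun _ => 1)))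
    (i : Fin (n + 1)) : f i ≠ 0 := by
  intro h0
  have hne : (chart n k i : Set (CohB1.ProjSpace n k)).Nonempty := by
    rw [Set.nonempty_iff_ne_empty]
    intro h1
    have h2 : chart n k i = ⊥ := Opens.ext h1
    have h3 : Subsingleton Γ(CohB1.ProjSpace n k, chart n k i) := by
      rw [h2]
      infer_instance
    exact one_ne_zero ((polyToChart_bijective (r := n) (k := k) i).1 (Subsingleton.elim (polyToChart i 1) (polyToChart i 0)))
  obtain ⟨x, hx⟩ := hne
  obtain ⟨U, m, c, hxU, hU⟩ := K922.Chart.exists_chart hD hx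
  have h1 := c.ideal 0 U le_rfl
  have h2 : (D 0).ideal U = ⊥ := by
    rw [← (D 0).map_ideal (U := U) (V := ch n k i) hU, E.ideal_eq hs, h0, Ideal.map_span, Set.image_singleton,
      map_zero, Ideal.span_singleton_eq_bot]
  rw [h2, resO_self, eq_comm, Ideal.span_singleton_eq_bot] at h1
  have h3 := (c.isReg_g 0).mem_nonZeroDivisors
  rw [h1] at h3
  have : Nonempty U.1 := ⟨⟨x, hxU⟩⟩
  exact zero_notMem_nonZeroDivisors h3

end Eqs

section Cover

open Groth.Agent.Sga67.Sec

variable {Y : Scheme.{u}} {r d : ℕ}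
  {s : Coh.structureModule (CohB1.ProjSpace n k) ⟶ CohB1.tensorPow (Twist.twistProjSpace n k d) r}
  {D : Fin 1 → (CohB1.ProjSpace n k).IdealSheafData} {π : Y ⟶ CohB1.ProjSpace n k}
  {g : ∀ i : Fin (n + 1), Sec (Twist.twistProjSpace n k d) (chart n k i)}
  {f : ∀ i : Fin (n + 1), Γ(CohB1.ProjSpace n k, chart n k i)}

/-- The coordinate of the root on the preimage of a chart. -/
noncomputable def tt (R : CycCov.Root (Twist.twistProjSpace n k d) r s π) (E : Eqs s g f) (i : Fin (n + 1)) :
    Γ(Y, π ⁻¹ᵁ chart n k i) :=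
  R.t (ch n k i) (g i) (E.gen i).bijective

variable (R : CycCov.Root (Twist.twistProjSpace n k d) r s π) (E : Eqs s g f)

theorem tt_pow (i : Fin (n + 1)) : tt R E i ^ r = (π.app (chart n k i)).hom (f i) :=
  R.pow_eq (ch n k i) (g i) _ (f i) (E.val i)

theorem eval₂_tt (i : Fin (n + 1)) :
    Polynomial.eval₂ (π.app (chart n k i)).hom (tt R E i) (Polynomial.X ^ r - Polynomial.C (f i)) = 0 := by
  rw [Polynomial.eval₂_sub, Polynomial.eval₂_X_pow, Polynomial.eval₂_C, tt_pow, sub_self]

theorem lift_bijective (hR : CycCov.IsSimple R) (i : Fin (n + 1)) :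
    Function.Bijective (AdjoinRoot.lift (π.app (chart n k i)).hom (tt R E i) (eval₂_tt R E i)) :=
  hR.2 (ch n k i) (g i) (E.gen i).bijective (f i) (E.val i)

theorem ker_eval₂_tt (hR : CycCov.IsSimple R) (i : Fin (n + 1)) :
    RingHom.ker (Polynomial.eval₂RingHom (π.app (chart n k i)).hom (tt R E i)) =
      Ideal.span {Polynomial.X ^ r - Polynomial.C (f i)} :=
  K945.RootAlg.ker_eval₂ _ (lift_bijective R E hR i).1

theorem surj_eval₂_tt (hR : CycCov.IsSimple R) (i : Fin (n + 1)) :
    Function.Surjective (Polynomial.eval₂RingHom (π.app (chart n k i)).hom (tt R E i)) :=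
  K945.RootAlg.eval₂_surjective _ (lift_bijective R E hR i).2

/-- The coordinates of the root on the overlaps. -/
theorem rel_tt (i j : Fin (n + 1)) :
    resO Y (inf_le_left : π ⁻¹ᵁ chart n k i ⊓ π ⁻¹ᵁ chart n k j ≤ _) (tt R E i) =
      resO Y (inf_le_left : π ⁻¹ᵁ chart n k i ⊓ π ⁻¹ᵁ chart n k j ≤ _) ((π.app _).hom (ratio i j)) ^ d *
        resO Y (inf_le_right : π ⁻¹ᵁ chart n k i ⊓ π ⁻¹ᵁ chart n k j ≤ _) (tt R E j) := by
  let V : (CohB1.ProjSpace n k).affineOpens :=
    ⟨chart n k i ⊓ chart n k j, (isAffineOpen_chart i).inf (isAffineOpen_chart j)⟩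
  have hi : V.1 ≤ (ch n k i).1 := inf_le_left
  have hj : V.1 ≤ (ch n k j).1 := inf_le_right
  have gi := (E.gen i).restrict hi
  have gj := (E.gen j).restrict hj
  have h1 := R.t_res (ch n k i) V hi (g i) (E.gen i).bijective gi.bijective
  have h2 := R.t_res (ch n k j) V hj (g j) (E.gen j).bijective gj.bijective
  have hrel := E.rel i j
  have key : ∀ (e' : Sec (Twist.twistProjSpace n k d) V.1) (he' : CycCov.IsGen (Twist.twistProjSpace n k d) V.1 e')
      (h : resO _ hi (ratio i j) ^ d • Groth.Agent.Sga67.Sec.res _ hi (g i) = e'),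
      R.t V e' he' * (π.app V.1).hom (resO _ hi (ratio i j) ^ d) =
        R.t V (Groth.Agent.Sga67.Sec.res _ hi (g i)) gi.bijective := by
    rintro e' he' rfl
    exact R.t_smul V _ gi.bijective _ he'
  have h3 := key _ gj.bijective hrel
  have h4 : (π.app V.1).hom (resO _ hi (ratio i j) ^ d) =
      resO Y (inf_le_left : π ⁻¹ᵁ chart n k i ⊓ π ⁻¹ᵁ chart n k j ≤ _) ((π.app _).hom (ratio i j)) ^ d := by
    rw [map_pow]
    congr 1
    exact (Groth.Agent.Sga5.AmpleFib.app_ores π hi (ratio i j))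
  change Y.presheaf.map _ _ = _
  have h5 : resO Y (inf_le_left : π ⁻¹ᵁ chart n k i ⊓ π ⁻¹ᵁ chart n k j ≤ _) (tt R E i) =
    R.t V (Groth.Agent.Sga67.Sec.res _ hi (g i)) gi.bijective := h1
  have h6 : resO Y (inf_le_right : π ⁻¹ᵁ chart n k i ⊓ π ⁻¹ᵁ chart n k j ≤ _) (tt R E j) =
    R.t V (Groth.Agent.Sga67.Sec.res _ hj (g j)) gj.bijective := h2
  refine h5.trans ?_
  rw [h6, ← h4]
  exact h3.symm.trans (mul_comm _ _)

variable (hR : CycCov.IsSimple R) (hr : 0 < r)

include E hR hr in
theorem isFinite : IsFinite π := by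
  have := hR.1
  refine K892.DblCov.isFinite_of_affine_nhds π fun x => ?_
  have hx : x ∈ ⨆ i : Fin (n + 1), chart n k i := by
    rw [show ⨆ i : Fin (n + 1), chart n k i = ⊤ from
      K945.TwistIdeal.iSup_chart (𝟙 (CohB1.ProjSpace n k))]
    trivial
  obtain ⟨i, hi⟩ := Opens.mem_iSup.1 hx
  exact ⟨ch n k i, hi, K945.RootAlg.finite_of_bij hr _ (lift_bijective R E hR i).2⟩

/-- The ideal of the reduced ramification divisor. -/
noncomputable abbrev ram (D : Fin 1 → (CohB1.ProjSpace n k).IdealSheafData) (π : Y ⟶ CohB1.ProjSpace n k) :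
    Y.IdealSheafData := ((D 0).comap π).radical

variable (hD : LogNCD.IsNCD D (CohB1.ProjSpace.toSpec n k))
    (hs : CycCov.IsZeroDiv (CohB1.tensorPow (Twist.twistProjSpace n k d) r) s (CycCov.divIdeal D (fun _ => 1)))

include hR hr hD hs in
theorem ram_ideal (i : Fin (n + 1)) (h : IsAffineOpen (π ⁻¹ᵁ chart n k i)) :
    (ram D π).ideal ⟨π ⁻¹ᵁ chart n k i, h⟩ = Ideal.span {tt R E i} := by
  have := hR.1
  rw [Scheme.IdealSheafData.radical_ideal]
  have h1 := Groth.Agent.Picfga.ClosedMap.ideal_comap_preimage π (D 0) (ch n k i)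
  rw [E.ideal_eq hs, Ideal.map_span, Set.image_singleton] at h1
  change (((D 0).comap π).ideal ⟨π ⁻¹ᵁ (ch n k i).1, (ch n k i).2.preimage π⟩).radical = _
  rw [h1]
  exact K945.RootAlg.radical_eq hr (ker_eval₂_tt R E hR i) (surj_eval₂_tt R E hR i) (tt_pow R E i)
    (E.ideal_eq hs i ▸ isRadical_ideal hD (ch n k i))

include hR hr hD hs in
theorem genOn_tt (i : Fin (n + 1)) : GenOn (ram D π) (tt R E i) := by
  have := hR.1
  refine genOn_of_affine (U := ⟨π ⁻¹ᵁ chart n k i, (isAffineOpen_chart i).preimage π⟩) ?_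
    (ram_ideal R E hR hr hD hs i _)
  refine K945.RootAlg.mem_nonZeroDivisors hr (ker_eval₂_tt R E hR i) (surj_eval₂_tt R E hR i) ?_
  have h1 := E.ne_zero hD hs i
  have : IsDomain Γ(CohB1.ProjSpace n k, chart n k i) :=
    MulEquiv.isDomain _ (RingEquiv.ofBijective _ (polyToChart_bijective (r := n) (k := k) i)).symm.toMulEquiv
  exact mem_nonZeroDivisors_of_ne_zero h1

include E hR hr hD hs in
/-- The ideal module of the reduced ramification divisor is `π^* O(-d)`. -/
theorem nonempty_ram : Nonempty (ClSub.idealMod (ram D π) ≅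
    (Scheme.Modules.pullback π).obj (Twist.twistProjSpace n k (-(d : ℤ)))) :=
  K945.TwistIdeal.nonempty_iso π (ram D π) d (fun i => tt R E i) (genOn_tt R E hR hr hD hs)
    (rel_tt R E)

include E hD hs in
theorem genOn_f (i : Fin (n + 1)) : GenOn (D 0) (f i) := by
  refine genOn_of_affine (U := ch n k i) ?_ (E.ideal_eq hs i)
  have h1 := E.ne_zero hD hs i
  have : IsDomain Γ(CohB1.ProjSpace n k, chart n k i) :=
    MulEquiv.isDomain _ (RingEquiv.ofBijective _ (polyToChart_bijective (r := n) (k := k) i)).symm.toMulEquiv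
  exact mem_nonZeroDivisors_of_ne_zero h1

include E hD hs in
/-- The ideal module of the branch divisor is `O(-rd)`. -/
theorem nonempty_branch : Nonempty (ClSub.idealMod (D 0) ≅
    (Scheme.Modules.pullback (𝟙 (CohB1.ProjSpace n k))).obj
      (Twist.twistProjSpace n k (-((r * d : ℕ) : ℤ)))) :=
  K945.TwistIdeal.nonempty_iso (𝟙 (CohB1.ProjSpace n k)) (D 0) (r * d) (fun i => f i) (genOn_f E hD hs)
    (fun i j => E.rel_f i j)

/-- A morphism is a closed immersion if it is affine and surjective on functions over an affine cover. -/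
theorem isClosedImmersion_of_cover {A B : Scheme.{u}} (h : A ⟶ B) [IsAffineHom h] {ι : Type*}
    (U : ι → B.affineOpens) (hcov : ⨆ i, (U i : B.Opens) = ⊤)
    (H : ∀ i, Function.Surjective (h.app (U i).1).hom) : IsClosedImmersion h := by
  rw [IsZariskiLocalAtTarget.iff_of_iSup_eq_top (P := @IsClosedImmersion) (fun i => (U i).1) hcov]
  intro x
  have i1 : IsAffine (U x).1 := (U x).2
  have i2 : IsAffine (h ⁻¹ᵁ (U x).1) := (U x).2.preimage h
  apply IsClosedImmersion.of_surjective_of_isAffine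
  have h1 : ∀ V : B.Opens, V = (U x).1 → Function.Surjective (h.app V).hom := by
    rintro V rfl
    exact H x
  have h2 : (h ∣_ (U x).1).appTop.hom =
      (A.presheaf.map (eqToHom (image_morphismRestrict_preimage h (U x).1 ⊤)).op).hom.comp
        (h.app ((U x).1.ι ''ᵁ ⊤)).hom := congrArg (fun a => a.hom) (morphismRestrict_appTop h (U x).1)
  have h3 : Function.Surjective ((A.presheaf.map (eqToHom (image_morphismRestrict_preimage h (U x).1 ⊤)).op).hom.comp
        (h.app ((U x).1.ι ''ᵁ ⊤)).hom) := by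
    rw [RingHom.coe_comp]
    exact (ConcreteCategory.bijective_of_isIso
      (A.presheaf.map (eqToHom (image_morphismRestrict_preimage h (U x).1 ⊤)).op)).2.comp (h1 _ (by simp))
  rw [← h2] at h3
  exact h3

theorem iSup_ch : ⨆ i : Fin (n + 1), ((ch n k i).1 : (CohB1.ProjSpace n k).Opens) = ⊤ :=
  K945.TwistIdeal.iSup_chart (𝟙 (CohB1.ProjSpace n k))

theorem app_comp_subschemeι (J : Y.IdealSheafData) (U : (CohB1.ProjSpace n k).Opens) :
    ((J.subschemeι ≫ π).app U).hom = (J.subschemeι.app (π ⁻¹ᵁ U)).hom.comp (π.app U).hom :=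
  congrArg (fun a => a.hom) (Scheme.Hom.comp_app J.subschemeι π U)

include E hR hr hD hs in
/-- The reduced ramification divisor maps isomorphically to the branch divisor: closed immersion. -/
theorem isClosedImmersion_ram : IsClosedImmersion ((ram D π).subschemeι ≫ π) := by
  have := hR.1
  refine isClosedImmersion_of_cover _ (fun i : Fin (n + 1) => ch n k i) iSup_ch fun i => ?_
  rw [app_comp_subschemeι]
  intro z
  have hU := (isAffineOpen_chart (r := n) (k := k) i).preimage π
  obtain ⟨y, rfl⟩ := (ram D π).subschemeι_app_surjective ⟨π ⁻¹ᵁ chart n k i, hU⟩ z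
  obtain ⟨b, hb⟩ := K945.RootAlg.exists_sub_mem (φ := (π.app (chart n k i)).hom) (t := tt R E i)
    (surj_eval₂_tt R E hR i) y
  refine ⟨b, ?_⟩
  rw [← ram_ideal R E hR hr hD hs i hU, ← Scheme.IdealSheafData.ker_subschemeι_app, RingHom.mem_ker, map_sub,
    sub_eq_zero] at hb
  exact hb.symm

include E hR hr hD hs in
/-- The reduced ramification divisor maps isomorphically to the branch divisor: the ideal. -/
theorem ker_ram : ((ram D π).subschemeι ≫ π).ker = D 0 := by
  have := hR.1
  refine Scheme.IdealSheafData.ext_of_iSup_eq_top (fun i : Fin (n + 1) => ch n k i) iSup_ch fun i => ?_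
  have hU := (isAffineOpen_chart (r := n) (k := k) i).preimage π
  rw [Scheme.Hom.ker_apply, E.ideal_eq hs i]
  ext b
  rw [app_comp_subschemeι]
  change (π.app (chart n k i)).hom b ∈ RingHom.ker ((ram D π).subschemeι.app (π ⁻¹ᵁ chart n k i)).hom ↔ _
  have h1 := (ram D π).ker_subschemeι_app ⟨π ⁻¹ᵁ chart n k i, hU⟩
  rw [ram_ideal R E hR hr hD hs i hU] at h1
  have h2 : ((π.app (chart n k i)).hom b ∈ RingHom.ker ((ram D π).subschemeι.app (π ⁻¹ᵁ chart n k i)).hom) ↔
      (π.app (chart n k i)).hom b ∈ Ideal.span {tt R E i} := by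
    rw [← h1]
  exact h2.trans (K945.RootAlg.mem_iff hr (ker_eval₂_tt R E hR i) (surj_eval₂_tt R E hR i) (tt_pow R E i) b)

include E hR hr hD hs in
theorem exists_iso : ∃ e : (ram D π).subscheme ≅ (D 0).subscheme, e.hom ≫ (D 0).subschemeι =
    (ram D π).subschemeι ≫ π := by
  have h1 := isClosedImmersion_ram R E hR hr hD hs
  have h : ((ram D π).subschemeι ≫ π).ker = (D 0).subschemeι.ker := by
    rw [ker_ram R E hR hr hD hs, Scheme.IdealSheafData.ker_subschemeι]
  refine ⟨⟨IsClosedImmersion.lift (D 0).subschemeι ((ram D π).subschemeι ≫ π) h.ge,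
    IsClosedImmersion.lift ((ram D π).subschemeι ≫ π) (D 0).subschemeι h.le, ?_, ?_⟩,
    IsClosedImmersion.lift_fac _ _ _⟩
  · rw [← cancel_mono ((ram D π).subschemeι ≫ π), Category.assoc, IsClosedImmersion.lift_fac,
      IsClosedImmersion.lift_fac, Category.id_comp]
  · rw [← cancel_mono (D 0).subschemeι, Category.assoc, IsClosedImmersion.lift_fac, IsClosedImmersion.lift_fac,
      Category.id_comp]

end Cover

end K945.SimpleProj
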