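import Groth.Agent.Lefpen.H121.CurveForm
import Groth.Agent.Coherent.K51.CIStep

/-!
# Ideals on a scheme over projective space whose local generators transform like `T_i^{-b}`

* `nonempty_iso`: for any `φ : Z ⟶ P^N_k` and an effective Cartier ideal sheaf `J` on `Z` with generators `u_i` on the
  preimages of the charts such that `u_i = (T_j / T_i)^b u_j`, the ideal module of `J` is `φ^* O(-b)`.
-/

set_option autoImplicit false
universe u

open CategoryTheory AlgebraicGeometry Limits TopologicalSpace Opposite MvPolynomial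

namespace K945.TwistIdeal

open LefPen Groth.Agent.Lefpen.H718.Chart Groth.Agent.Lefpen.H705.HypIdeal Groth.Agent.Lefpen.H705.SecIdeal
open Groth.Agent.Lefpen.H705.ChartPoly Groth.Agent.Sga5 Groth.Agent.Fdesc.LocGen
open Groth.Agent.Lefpen.H121.ChartLift Groth.Agent.FormalB Groth.Agent.Dix.IdealModCartier
open Groth.Agent.Lefpen.H121.CurveForm Groth.Agent.Picfga.LineHom

variable {N : ℕ} {k : Type u} [Field k]

theorem iSup_chart {Z : Scheme.{u}} (φ : Z ⟶ CohB1.ProjSpace N k) :
    ⨆ i : Fin (N + 1), φ ⁻¹ᵁ chart N k i = ⊤ := by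
  exact Groth.Agent.Lefpen.H708.Geo.iSup_preimage_chart φ

/-- The ideal module of an effective Cartier ideal whose generators transform like `T_i^{-b}`. -/
theorem nonempty_iso {Z : Scheme.{u}} (φ : Z ⟶ CohB1.ProjSpace N k) (J : Z.IdealSheafData) (b : ℕ)
    (u : ∀ i : Fin (N + 1), Γ(Z, φ ⁻¹ᵁ chart N k i)) (hu : ∀ i, GenOn J (u i))
    (hrel : ∀ i j, ores (inf_le_left : φ ⁻¹ᵁ chart N k i ⊓ φ ⁻¹ᵁ chart N k j ≤ _) (u i) =
      ores (inf_le_left : φ ⁻¹ᵁ chart N k i ⊓ φ ⁻¹ᵁ chart N k j ≤ _) ((φ.app _).hom (ratio i j)) ^ b *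
        ores (inf_le_right : φ ⁻¹ᵁ chart N k i ⊓ φ ⁻¹ᵁ chart N k j ≤ _) (u j)) :
    Nonempty (ClSub.idealMod J ≅
      (Scheme.Modules.pullback φ).obj (Twist.twistProjSpace N k (-(b : ℤ)))) := by
  obtain ⟨g, hg, hg'⟩ := exists_gens (N := N) (k := k) (-(b : ℤ))
  have h2 : (-(b : ℤ)).toNat = 0 := Int.toNat_of_nonpos (by omega)
  have h3 : (- -(b : ℤ)).toNat = b := by simp
  have hn : ∀ i, ∃ n : Γ(ClSub.idealMod J, φ ⁻¹ᵁ chart N k i), val J n = u i := fun i =>
    exists_val_eq_of_local _ _ _ fun x hx => by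
      obtain ⟨V, hxV, hV⟩ := exists_affine_mem_le _ x hx
      refine ⟨V, hV, hxV, ?_⟩
      rw [(hu i V hV).2]
      exact Ideal.mem_span_singleton_self _
  choose n hn using hn
  have gn : ∀ i, IsGen (n i) := fun i => isGen_of_genOn ((hn i).symm ▸ hu i)
  have hg1 : ∀ i, IsGen (pullSec φ (g i)) := fun i => (hg i).pullSec φ
  obtain ⟨ψ, -⟩ := exists_iso (L := (Scheme.Modules.pullback φ).obj (Twist.twistProjSpace N k (-(b : ℤ))))
    (N := ClSub.idealMod J) (iSup_chart φ) (e := fun i => pullSec φ (g i)) hg1 (n := n)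
    (trans_of_inf hg1 (by
      intro i j
      refine ⟨ores (inf_le_left : φ ⁻¹ᵁ chart N k i ⊓ φ ⁻¹ᵁ chart N k j ≤ _) ((φ.app _).hom (ratio i j)) ^ b,
        ?_, ?_⟩
      · have h1 := congrArg (pullSec φ) (hg' i j)
        rw [pullSec_smul, pullSec_smul, ← res_pullSec, ← res_pullSec, h2, h3, pow_zero, map_one, one_smul] at h1
        refine h1.trans ?_
        congr 1
        refine (map_pow (φ.app (chart N k i ⊓ chart N k j)).hom _ b).trans ?_
        congr 1
        exact (ores_app φ (inf_le_left : chart N k i ⊓ chart N k j ≤ chart N k i) (ratio i j)).symm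
      · apply val_injective
        rw [val_smul, val_res, val_res, hn, hn]
        exact hrel i j)) gn
  exact ⟨ψ.symm⟩

end K945.TwistIdeal
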